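import Groth.Agent.TwistAffLib.Main
import Groth.Agent.KoszOrthLib.Inv
import Groth.Agent.S0792
import Groth.Agent.NormDescLib.Relative
import Groth.Agent.ProjKLib.Reg
import Groth.Agent.PerfBaseLib.Supp

/-!
# Twists of sequences with proper supports
-/

set_option autoImplicit false
set_option linter.style.haveILetI false
set_option backward.isDefEq.respectTransparency false
set_option backward.isDefEq.respectTransparency.types false
set_option maxHeartbeats 1000000
universe u

open CategoryTheory CategoryTheory.Limits AlgebraicGeometry TopologicalSpace Opposite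
open CubeConsLib

noncomputable section

namespace TwistSuppLib

variable {X Y : Scheme.{u}} (f : X ⟶ Y) [IsNoetherian Y] [LocallyOfFiniteType f] [QuasiCompact f]

/-- Serre vanishing for coherent modules with proper support. -/
theorem exists_vanishing {L : X.Modules} (hL : PicF.IsInvertible L) (hamp : RelAmple.IsRelAmple f L)
    {M : X.Modules} (hM : Coh.IsCoh M) (hs : ClSub.IsProperOver f (CohB1.support M)) :
    ∃ N : ℕ, ∀ n : ℕ, N ≤ n → ∀ p : ℕ, 0 < p →
      IsZero ((Coh.RpushAb f p).obj (Coh.toAb (CohB1.tensorMod M (CohB1.tensorPow L n)))) := by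
  obtain ⟨Z, i, hi, hprop, G, hG, hGft, ⟨e⟩⟩ := (Groth.Agent.S0792.result f M hM.1 hM.2).mp hs
  haveI := hi; haveI := hprop; haveI := hG
  let L' := (Scheme.Modules.pullback i).obj L
  have hL' : PicF.IsInvertible L' := AmpleDevLib.isInvertible_pb i hL
  have hamp' : RelAmple.IsRelAmple (i ≫ f) L' := NormDescLib.relAmple_pb i f hamp
  obtain ⟨n₀, h₀⟩ := SerreVanLib.exists_vanishing_rpush (i ≫ f) L' hL' (fun W hW => hamp'.2 ⟨W, hW⟩) G ⟨hG, hGft⟩
  refine ⟨n₀, fun n hn p hp => ?_⟩
  haveI : IsLocallyNoetherian X := LocallyOfFiniteType.isLocallyNoetherian f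
  haveI : IsLocallyNoetherian Z := LocallyOfFiniteType.isLocallyNoetherian (i ≫ f)
  let N := CohB1.tensorMod G (CohB1.tensorPow L' n)
  have hN : Coh.IsCoh N := SerreVanLib.isCoh_tensor ⟨hG, hGft⟩ (AmpleThLib.tensorPow_isInvertible hL' n)
  haveI := hN.1
  have hLn : FlatMod.IsFinLocFree (CohB1.tensorPow L n) :=
    IntShAcyc.vb_inv (AmpleThLib.tensorPow_isInvertible hL n)
  obtain ⟨e₁⟩ := cl_eq_iff.1 (show cl (CohB1.tensorMod ((Scheme.Modules.pullback i).obj (CohB1.tensorPow L n)) G) = cl N by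
    rw [cl_tensor, cl_tensor, IntShAcyc.cl_tensorPow, ← pull_cl, IntShAcyc.cl_tensorPow, map_pow, pull_cl, mul_comm])
  obtain ⟨e₂⟩ := cl_eq_iff.1 (show cl (CohB1.tensorMod M (CohB1.tensorPow L n)) =
      cl (CohB1.tensorMod (CohB1.tensorPow L n) ((Scheme.Modules.pushforward i).obj G)) by
    rw [cl_tensor, cl_tensor, cl_eq_iff.2 ⟨e⟩, mul_comm])
  let c : (Scheme.Modules.pushforward i).obj N ≅ CohB1.tensorMod M (CohB1.tensorPow L n) :=
    (Scheme.Modules.pushforward i).mapIso e₁.symm ≪≫
      ((ProjFormLib.projIso' i (CohB1.tensorPow L n) hLn).app G).symm ≪≫ e₂.symm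
  obtain ⟨a'⟩ := RpushLib.nonempty_toAb_rpush_iso (i ≫ f) N p
  obtain ⟨a⟩ := RpushLib.nonempty_toAb_rpush_iso f ((Scheme.Modules.pushforward i).obj N) p
  have h2 : IsZero ((Coh.Rpush (i ≫ f) p).obj N) := RpushLib.isZero_of_isZero_toAb ((h₀ n hn p hp).of_iso a')
  obtain ⟨d⟩ := RpushLib.nonempty_rpush_push_iso i f N p
  exact (((QCohLib.toAbF Y).map_isZero (h2.of_iso d)).of_iso a.symm).of_iso
    ((Coh.RpushAb f p).mapIso ((QCohLib.toAbF X).mapIso c.symm))

omit [AlgebraicGeometry.IsNoetherian Y] [LocallyOfFiniteType f] [QuasiCompact f] in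
/-- An epimorphism with acyclic kernel stays epimorphic under the direct image. -/
theorem epi_push {S : ShortComplex X.Modules} (hS : S.ShortExact)
    (h : IsZero ((Coh.RpushAb f 1).obj (Coh.toAb S.X₁))) : Epi ((Scheme.Modules.pushforward f).map S.g) := by
  haveI : Epi ((QCohLib.toAbF Y).map ((Scheme.Modules.pushforward f).map S.g)) :=
    (Groth.Agent.RDerLib.epi_map_g_iff (F := Coh.pushAb f) _).1
      (Groth.Agent.RDerLib.epi_map_g (hS.map_of_exact (QCohLib.toAbF X)) 0 h)
  exact (QCohLib.toAbF Y).epi_of_epi_map this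

/-- Twisted direct images of exact sequences with proper supports are eventually exact. -/
theorem exists_exact {L : X.Modules} (hL : PicF.IsInvertible L) (hamp : RelAmple.IsRelAmple f L)
    {C : ShortComplex X.Modules} (hC : C.Exact) (h1 : Coh.IsCoh C.X₁) (h2 : Coh.IsCoh C.X₂)
    (hs1 : ClSub.IsProperOver f (CohB1.support C.X₁)) :
    ∃ N : ℕ, ∀ n : ℕ, N ≤ n →
      (C.map (DCoh.tensorRightMod (CohB1.tensorPow L n) ⋙ Coh.push f)).Exact := by
  haveI : IsLocallyNoetherian X := LocallyOfFiniteType.isLocallyNoetherian f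
  have hK : Coh.IsCoh (kernel C.f) := QCohLib.isCoh_kernel C.f h1 h2.1
  let T : ShortComplex X.Modules := ShortComplex.mk (kernel.ι C.f) (kernel.lift C.g C.f C.zero)
    ((cancel_mono (kernel.ι C.g)).1 (by rw [Category.assoc, kernel.lift_ι, kernel.condition, zero_comp]))
  have hT : T.ShortExact := by
    haveI : Mono T.f := inferInstanceAs (Mono (kernel.ι C.f))
    haveI : Epi T.g := (ShortComplex.exact_iff_epi_kernel_lift C).1 hC
    refine ShortComplex.ShortExact.mk (ShortComplex.exact_of_f_is_kernel _ ?_)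
    exact KernelFork.IsLimit.ofι' T.f T.zero fun {A} k hk =>
      ⟨kernel.lift C.f k (by
        have hk' := congrArg (· ≫ kernel.ι C.g) hk
        simpa only [T, Category.assoc, kernel.lift_ι, zero_comp] using hk'), kernel.lift_ι _ _ _⟩
  have hsK : ClSub.IsProperOver f (CohB1.support (kernel C.f)) :=
    PerfBaseLib.isProperOver_of_subset f (QCohLib.isClosed_support _ hK.2) (DevissLib.support_mono (kernel.ι C.f)) hs1
  obtain ⟨N, hN⟩ := exists_vanishing f hL hamp hK hsK
  refine ⟨N, fun n hn => ?_⟩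
  have hLn := AmpleThLib.tensorPow_isInvertible hL n
  let t := DCoh.tensorRightMod (CohB1.tensorPow L n)
  haveI : PreservesFiniteLimits t := Groth.Agent.KoszOrthLib.preservesFiniteLimits_tensorRightMod hLn
  haveI : PreservesFiniteColimits t := Groth.Agent.KoszOrthLib.preservesFiniteColimits_tensorRightMod hLn
  haveI : t.PreservesHomology := inferInstance
  haveI : PreservesFiniteLimits (Coh.push f) :=
    haveI : PreservesLimitsOfSize.{0, 0} (Scheme.Modules.pushforward f) :=
      (Scheme.Modules.pullbackPushforwardAdjunction f).rightAdjoint_preservesLimits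
    inferInstanceAs (PreservesFiniteLimits (Scheme.Modules.pushforward f))
  let Φ := t ⋙ Coh.push f
  haveI : Epi (Φ.map T.g) := epi_push f (hT.map_of_exact t) (hN n hn 1 Nat.one_pos)
  let K : ShortComplex X.Modules := ShortComplex.mk (kernel.ι C.g) C.g (kernel.condition _)
  have hK' : (K.map Φ).Exact :=
    (((Functor.preservesFiniteLimits_tfae Φ).out 3 1 : PreservesFiniteLimits Φ ↔ ∀ S : ShortComplex X.Modules,
      S.Exact ∧ Mono S.f → (S.map Φ).Exact ∧ Mono (Φ.map S.f)).1 inferInstance K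
      ⟨ShortComplex.exact_kernel C.g, inferInstanceAs (Mono (kernel.ι C.g))⟩).1
  let φ : C.map Φ ⟶ K.map Φ :=
    { τ₁ := Φ.map T.g
      τ₂ := 𝟙 _
      τ₃ := 𝟙 _
      comm₁₂ := by
        simp only [ShortComplex.map_f, Category.comp_id]
        rw [← Functor.map_comp]
        exact congrArg Φ.map (kernel.lift_ι _ _ _)
      comm₂₃ := by simp; rfl }
  haveI : Epi φ.τ₁ := inferInstanceAs (Epi (Φ.map T.g))
  haveI : IsIso φ.τ₂ := inferInstanceAs (IsIso (𝟙 _))
  haveI : Mono φ.τ₃ := inferInstanceAs (Mono (𝟙 _))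
  exact (ShortComplex.exact_iff_of_epi_of_isIso_of_mono φ).2 hK'

end TwistSuppLib

end
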